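import Mathlib

/-!
# `SL_2 × SL_2` in `Sp_4` (helper267)
-/

set_option autoImplicit false

namespace Cfsg.Agent.H267.One

open Matrix

variable {F : Type*} [Field F]

/-- two blocks -/
def E (M N : Matrix (Fin 2) (Fin 2) F) : Matrix (Fin 2 ⊕ Fin 2) (Fin 2 ⊕ Fin 2) F :=
  fromBlocks !![M 0 0, 0; 0, N 0 0] !![M 0 1, 0; 0, N 0 1] !![M 1 0, 0; 0, N 1 0] !![M 1 1, 0; 0, N 1 1]

theorem E_mul (M N M' N' : Matrix (Fin 2) (Fin 2) F) : E M N * E M' N' = E (M * M') (N * N') := by
  rw [E, E, E, fromBlocks_multiply]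
  congr 1 <;> (ext i j; fin_cases i <;> fin_cases j <;> simp [Matrix.mul_apply, Fin.sum_univ_two])

theorem E_one : E (1 : Matrix (Fin 2) (Fin 2) F) 1 = 1 := by
  rw [E, ← fromBlocks_one]
  congr 1 <;> (ext i j; fin_cases i <;> fin_cases j <;> simp)

theorem E_pow (M N : Matrix (Fin 2) (Fin 2) F) (k : ℕ) : E M N ^ k = E (M ^ k) (N ^ k) := by
  induction k with
  | zero => rw [pow_zero, pow_zero, pow_zero, E_one]
  | succ k ih => rw [pow_succ, ih, E_mul, pow_succ, pow_succ]

theorem E_mem {M N : Matrix (Fin 2) (Fin 2) F} (hM : M.det = 1) (hN : N.det = 1) :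
    E M N ∈ symplecticGroup (Fin 2) F := by
  rw [det_fin_two] at hM hN
  rw [SymplecticGroup.mem_iff, J, E, fromBlocks_transpose, fromBlocks_multiply, fromBlocks_multiply]
  congr 1
  · ext i j
    fin_cases i <;> fin_cases j <;> simp [Matrix.vecMul, dotProduct] <;> ring
  · ext i j
    fin_cases i <;> fin_cases j <;> simp [Matrix.vecMul, dotProduct]
    · linear_combination - hM
    · linear_combination - hN
  · ext i j
    fin_cases i <;> fin_cases j <;> simp [Matrix.vecMul, dotProduct]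
    · linear_combination hM
    · linear_combination hN
  · ext i j
    fin_cases i <;> fin_cases j <;> simp [Matrix.vecMul, dotProduct] <;> ring

theorem E_inj {M N M' N' : Matrix (Fin 2) (Fin 2) F} (h : E M N = E M' N') : M = M' ∧ N = N' := by
  have h1 : ∀ i j, E M N i j = E M' N' i j := fun i j => by rw [h]
  constructor
  · ext i j
    fin_cases i <;> fin_cases j
    · simpa [E] using h1 (Sum.inl 0) (Sum.inl 0)
    · simpa [E] using h1 (Sum.inl 0) (Sum.inr 0)
    · simpa [E] using h1 (Sum.inr 0) (Sum.inl 0)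
    · simpa [E] using h1 (Sum.inr 0) (Sum.inr 0)
  · ext i j
    fin_cases i <;> fin_cases j
    · simpa [E] using h1 (Sum.inl 1) (Sum.inl 1)
    · simpa [E] using h1 (Sum.inl 1) (Sum.inr 1)
    · simpa [E] using h1 (Sum.inr 1) (Sum.inl 1)
    · simpa [E] using h1 (Sum.inr 1) (Sum.inr 1)

theorem E_one_iff {M N : Matrix (Fin 2) (Fin 2) F} (h : E M N = 1) : M = 1 ∧ N = 1 := by
  rw [← E_one] at h
  exact E_inj h

theorem eq_of_sq {x y : F} (h2 : (2 : F) = 0) (h : x * x = y * y) : x = y := by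
  have h3 : (x - y) * (x - y) = 0 := by linear_combination h + (y * y - x * y) * h2
  exact sub_eq_zero.1 (mul_self_eq_zero.1 h3)

/-- an involution commuting with a matrix of non-zero trace -/
theorem two_one (h2 : (2 : F) = 0) {B t : Matrix (Fin 2) (Fin 2) F} (htr : B 0 0 + B 1 1 ≠ 0) (h : B * t = t * B)
    (ht : t * t = 1) : t = 1 := by
  have e1 : ∀ i j, (B * t) i j = (t * B) i j := fun i j => by rw [h]
  have e2 : ∀ i j, (t * t) i j = (1 : Matrix (Fin 2) (Fin 2) F) i j := fun i j => by rw [ht]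
  have a01 := e1 0 1
  have a10 := e1 1 0
  have b00 := e2 0 0
  have b11 := e2 1 1
  simp only [Matrix.mul_apply, Fin.sum_univ_two] at a01 a10 b00 b11
  rw [Matrix.one_apply_eq] at b00 b11
  have hxw : t 0 0 = t 1 1 := eq_of_sq h2 (by linear_combination b00 - b11)
  have hy : t 0 1 = 0 := by
    have : (B 0 0 + B 1 1) * t 0 1 = 0 := by
      rw [hxw] at a01
      linear_combination a01 + (B 1 1 * t 0 1) * h2
    exact (mul_eq_zero.1 this).resolve_left htr
  have hz : t 1 0 = 0 := by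
    have : (B 0 0 + B 1 1) * t 1 0 = 0 := by
      rw [hxw] at a10
      linear_combination a10 + (B 0 0 * t 1 0) * h2
    exact (mul_eq_zero.1 this).resolve_left htr
  have hw : t 1 1 = 1 := by
    rw [hy] at b11
    exact eq_of_sq h2 (by linear_combination b11)
  ext i j
  fin_cases i <;> fin_cases j
  · simpa using hxw.trans hw
  · simpa using hy
  · simpa using hz
  · simpa using hw

/-- the matrix `diag(τ, τ²)` of the blocks -/
theorem E_add (M N M' N' : Matrix (Fin 2) (Fin 2) F) : E M N + E M' N' = E (M + M') (N + N') := by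
  rw [E, E, E, fromBlocks_add]
  congr 1 <;> (ext i j; fin_cases i <;> fin_cases j <;> simp)

theorem adj_add (M : Matrix (Fin 2) (Fin 2) F) : M + M.adjugate = (M 0 0 + M 1 1) • (1 : Matrix (Fin 2) (Fin 2) F) := by
  rw [adjugate_fin_two]
  ext i j
  fin_cases i <;> fin_cases j <;> simp
  ring

theorem trace_sq (h2 : (2 : F) = 0) (M : Matrix (Fin 2) (Fin 2) F) :
    (M * M) 0 0 + (M * M) 1 1 = (M 0 0 + M 1 1) * (M 0 0 + M 1 1) := by
  simp only [Matrix.mul_apply, Fin.sum_univ_two]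
  linear_combination (M 0 1 * M 1 0 - M 0 0 * M 1 1) * h2

/-- **the centralizer of `B ⊕ B²` has no involution** -/
theorem cent_one (h2 : (2 : F) = 0) {B : Matrix (Fin 2) (Fin 2) F} (hdet : B.det = 1) (h0 : B 0 0 + B 1 1 ≠ 0)
    (h1 : B 0 0 + B 1 1 ≠ 1) {t : Matrix (Fin 2 ⊕ Fin 2) (Fin 2 ⊕ Fin 2) F} (h : E B (B * B) * t = t * E B (B * B))
    (ht : t * t = 1) : t = 1 := by
  obtain ⟨τ, hτ⟩ : ∃ τ, B 0 0 + B 1 1 = τ := ⟨_, rfl⟩
  have hdet2 : (B * B).det = 1 := by rw [det_mul, hdet, one_mul]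
  have htr2 := trace_sq h2 B
  rw [hτ] at h0 h1 htr2
  -- the inverse
  have hinv : E B.adjugate (B * B).adjugate * E B (B * B) = 1 := by
    rw [E_mul, adjugate_mul, adjugate_mul, hdet, hdet2, one_smul, E_one]
  have hinv' : E B (B * B) * E B.adjugate (B * B).adjugate = 1 := by
    rw [E_mul, mul_adjugate, mul_adjugate, hdet, hdet2, one_smul, E_one]
  have h3 : E B.adjugate (B * B).adjugate * t = t * E B.adjugate (B * B).adjugate := by
    calc E B.adjugate (B * B).adjugate * t =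
        E B.adjugate (B * B).adjugate * t * (E B (B * B) * E B.adjugate (B * B).adjugate) := by
          rw [hinv', mul_one]
      _ = E B.adjugate (B * B).adjugate * (t * E B (B * B)) * E B.adjugate (B * B).adjugate := by
          simp only [mul_assoc]
      _ = E B.adjugate (B * B).adjugate * (E B (B * B) * t) * E B.adjugate (B * B).adjugate := by rw [h]
      _ = (E B.adjugate (B * B).adjugate * E B (B * B)) * t * E B.adjugate (B * B).adjugate := by
          simp only [mul_assoc]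
      _ = t * E B.adjugate (B * B).adjugate := by rw [hinv, one_mul]
  have hD : E (τ • 1) ((τ * τ) • 1) * t = t * E (τ • 1) ((τ * τ) • 1) := by
    have e : E (τ • 1) ((τ * τ) • 1) = E B (B * B) + E B.adjugate (B * B).adjugate := by
      rw [E_add, adj_add, adj_add, hτ, htr2]
    rw [e, add_mul, mul_add, h, h3]
  have hDd : E (τ • 1) ((τ * τ) • 1) = diagonal (Sum.elim ![τ, τ * τ] ![τ, τ * τ]) := by
    rw [E, ← fromBlocks_diagonal]
    congr 1 <;> (ext i j; fin_cases i <;> fin_cases j <;> simp)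
  rw [hDd] at hD
  have hne : τ ≠ τ * τ := by
    intro h4
    have h5 : τ * (τ - 1) = 0 := by linear_combination - h4
    rcases mul_eq_zero.1 h5 with h6 | h6
    · exact h0 h6
    · exact h1 (sub_eq_zero.1 h6)
  have hz : ∀ i j, Sum.elim ![τ, τ * τ] ![τ, τ * τ] i ≠ Sum.elim ![τ, τ * τ] ![τ, τ * τ] j → t i j = 0 := by
    intro i j hij
    have h4 : (diagonal (Sum.elim ![τ, τ * τ] ![τ, τ * τ]) * t) i j =
        (t * diagonal (Sum.elim ![τ, τ * τ] ![τ, τ * τ])) i j := by rw [hD]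
    rw [diagonal_mul, mul_diagonal] at h4
    have h5 : (Sum.elim ![τ, τ * τ] ![τ, τ * τ] i - Sum.elim ![τ, τ * τ] ![τ, τ * τ] j) * t i j = 0 := by
      linear_combination h4
    exact (mul_eq_zero.1 h5).resolve_left (sub_ne_zero.2 hij)
  -- `t` has blocks
  obtain ⟨t1, t2, hte⟩ : ∃ t1 t2 : Matrix (Fin 2) (Fin 2) F, t = E t1 t2 := by
    refine ⟨!![t (Sum.inl 0) (Sum.inl 0), t (Sum.inl 0) (Sum.inr 0); t (Sum.inr 0) (Sum.inl 0), t (Sum.inr 0) (Sum.inr 0)],
      !![t (Sum.inl 1) (Sum.inl 1), t (Sum.inl 1) (Sum.inr 1); t (Sum.inr 1) (Sum.inl 1), t (Sum.inr 1) (Sum.inr 1)],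
      ?_⟩
    have a1 : t (Sum.inl 0) (Sum.inl 1) = 0 := hz _ _ (by simpa using hne)
    have a2 : t (Sum.inl 1) (Sum.inl 0) = 0 := hz _ _ (by simpa using hne.symm)
    have a3 : t (Sum.inl 0) (Sum.inr 1) = 0 := hz _ _ (by simpa using hne)
    have a4 : t (Sum.inl 1) (Sum.inr 0) = 0 := hz _ _ (by simpa using hne.symm)
    have a5 : t (Sum.inr 0) (Sum.inl 1) = 0 := hz _ _ (by simpa using hne)
    have a6 : t (Sum.inr 1) (Sum.inl 0) = 0 := hz _ _ (by simpa using hne.symm)
    have a7 : t (Sum.inr 0) (Sum.inr 1) = 0 := hz _ _ (by simpa using hne)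
    have a8 : t (Sum.inr 1) (Sum.inr 0) = 0 := hz _ _ (by simpa using hne.symm)
    ext i j
    rcases i with i | i <;> rcases j with j | j <;> fin_cases i <;> fin_cases j <;>
      simp [E, a1, a2, a3, a4, a5, a6, a7, a8]
  rw [hte, E_mul, E_mul] at h
  rw [hte, E_mul] at ht
  obtain ⟨c1, c2⟩ := E_inj h
  obtain ⟨d1, d2⟩ := E_one_iff ht
  have e1 := two_one h2 (by rw [hτ]; exact h0) c1 d1
  have e2 := two_one h2 (by rw [htr2]; exact mul_ne_zero h0 h0) c2 d2
  rw [hte, e1, e2, E_one]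

end Cfsg.Agent.H267.One
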