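import Cfsg.Agent.H319.One.Base
import Cfsg.Agent.H377.SpElt
import Cfsg.Agent.S0242
import Cfsg.Agent.S0245
import Cfsg.Agent.S0246
import Cfsg.Agent.H267.One.Blk

/-!
# S4880, `Sp_4(q)`, `q` even (helper267)

All elements of order `p` are conjugate under `Aut S`; one commutes with an involution, `B ⊕ B²` does not.
-/

set_option autoImplicit false

namespace Cfsg.Agent.H267.One

open Cfsg Matrix Cfsg.Agent.H319.One

variable {F : Type*} [Field F] [Fintype F] {p n : ℕ} [Fact p.Prime]

theorem card_SL : Nat.card (SpecialLinearGroup (Fin 2) F) = (Fintype.card F ^ 2 - 1) * Fintype.card F := by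
  have h := Cfsg.Agent.S0242.result (F := F) rfl 2 (by norm_num)
  have hq : 1 < Fintype.card F := Fintype.one_lt_card
  rw [Fin.prod_univ_two] at h
  simp only [Fin.val_zero, pow_zero, Fin.val_one, pow_one] at h
  have h2 : Fintype.card F ^ 2 - Fintype.card F = (Fintype.card F - 1) * Fintype.card F := by
    rw [Nat.sub_mul, one_mul, sq]
  rw [h2] at h
  apply Nat.eq_of_mul_eq_mul_left (show 0 < Fintype.card F - 1 by omega)
  rw [h]; ring

/-- a matrix `B` of order `p`, its trace is not `0, 1` -/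
theorem exists_B (h2 : (2 : F) = 0) (h5 : 5 ≤ p) (hd : p ∣ Fintype.card F ^ 2 - 1) :
    ∃ B : Matrix (Fin 2) (Fin 2) F, B.det = 1 ∧ B ^ p = 1 ∧ B ≠ 1 ∧ B 0 0 + B 1 1 ≠ 0 ∧ B 0 0 + B 1 1 ≠ 1 := by
  classical
  have hp : p.Prime := Fact.out
  obtain ⟨g, hg⟩ := exists_prime_orderOf_dvd_card' (G := SpecialLinearGroup (Fin 2) F) p
    (by rw [card_SL]; exact hd.mul_right _)
  have hgp : (g : Matrix (Fin 2) (Fin 2) F) ^ p = 1 := by
    have := congrArg (Subtype.val) (show g ^ p = 1 by rw [← hg]; exact pow_orderOf_eq_one g)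
    simpa using this
  have hg1 : (g : Matrix (Fin 2) (Fin 2) F) ≠ 1 := by
    intro h
    have : g = 1 := Subtype.ext (by simpa using h)
    rw [this, orderOf_one] at hg
    omega
  have hdet := g.2
  obtain ⟨B, hB⟩ : ∃ B : Matrix (Fin 2) (Fin 2) F, (g : Matrix (Fin 2) (Fin 2) F) = B := ⟨_, rfl⟩
  rw [hB] at hgp hg1 hdet
  -- Cayley–Hamilton
  have hsq : B * B = (B 0 0 + B 1 1) • B + 1 := by
    rw [det_fin_two] at hdet
    ext i j
    fin_cases i <;> fin_cases j <;> simp [Matrix.mul_apply, Fin.sum_univ_two]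
    · linear_combination - hdet - h2
    · ring
    · ring
    · linear_combination - hdet - h2
  refine ⟨B, hdet, hgp, hg1, fun h0 => ?_, fun h1 => ?_⟩
  · rw [h0, zero_smul, zero_add] at hsq
    have h3 : B ^ 2 = 1 := by rw [sq, hsq]
    obtain ⟨k, hk⟩ : ∃ k, p = 2 * k + 1 := by
      obtain ⟨k, hk⟩ := hp.odd_of_ne_two (by omega)
      exact ⟨k, hk⟩
    apply hg1
    rw [hk, pow_add, pow_mul, h3, one_pow, one_mul, pow_one] at hgp
    exact hgp
  · rw [h1, one_smul] at hsq
    have h3 : B ^ 3 = 1 := by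
      rw [pow_succ, sq, hsq, add_mul, one_mul, hsq]
      have h4 : B + 1 + B = (2 : F) • B + 1 := by
        rw [two_smul]; abel
      rw [h4, h2, zero_smul, zero_add]
    have h4 : p % 3 = 1 ∨ p % 3 = 2 := by
      have : p % 3 ≠ 0 := by
        intro h5
        have h6 := (Nat.prime_dvd_prime_iff_eq Nat.prime_three hp).1 (Nat.dvd_of_mod_eq_zero h5)
        omega
      omega
    obtain ⟨k, hk⟩ : ∃ k, p = 3 * k + p % 3 := ⟨p / 3, by omega⟩
    apply hg1
    rcases h4 with h4 | h4
    · rw [hk, h4, pow_add, pow_mul, h3, one_pow, one_mul, pow_one] at hgp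
      exact hgp
    · rw [hk, h4, pow_add, pow_mul, h3, one_pow, one_mul] at hgp
      have h5 : B ^ 3 = B ^ 2 * B := pow_succ B 2
      rw [h3, hgp, one_mul] at h5
      exact h5.symm

theorem four_false (h2 : (2 : F) = 0) (hpF : ¬ p ∣ Fintype.card F) (h : Hyp p n (PSp 2 F)) : False := by
  classical
  have hp : p.Prime := Fact.out
  have h5 := h.five
  have hq : 1 < Fintype.card F := Fintype.one_lt_card
  have hnat : Nat.card F = Fintype.card F := Nat.card_eq_fintype_card
  -- the centre is trivial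
  have heven : Fintype.card F % 2 = 0 := by
    have : CharP F 2 := by
      obtain ⟨c, hc⟩ := CharP.exists F
      have hcp : c.Prime := CharP.char_is_prime F c
      have h3 : c ∣ 2 := (CharP.cast_eq_zero_iff F c 2).1 (by exact_mod_cast h2)
      have h4 : c = 2 := (Nat.prime_dvd_prime_iff_eq hcp Nat.prime_two).1 h3
      rwa [h4] at hc
    obtain ⟨k, hk, hk'⟩ := FiniteField.card F 2
    rw [hk']
    have : 2 ∣ 2 ^ (k : ℕ) := dvd_pow_self 2 (PNat.ne_zero k)
    omega
  have hZ : Nat.card (Subgroup.center (symplecticGroup (Fin 2) F)) = 1 := by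
    rw [Cfsg.Agent.S0246.result (F := F) rfl 2 (by norm_num)]
    exact (Nat.coprime_two_left.2 (Nat.odd_iff.2 (by omega)) : Nat.Coprime 2 (Fintype.card F - 1))
  have hbot : Subgroup.center (symplecticGroup (Fin 2) F) = ⊥ := Subgroup.card_eq_one.1 hZ
  have hinj : ∀ x y : symplecticGroup (Fin 2) F, (QuotientGroup.mk x : PSp 2 F) = QuotientGroup.mk y → x = y := by
    intro x y hxy
    have h3 := QuotientGroup.eq.1 hxy
    rw [hbot, Subgroup.mem_bot] at h3
    exact (eq_of_inv_mul_eq_one h3)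
  have hcard : Nat.card (PSp 2 F) = Fintype.card F ^ 4 * ((Fintype.card F ^ 2 - 1) * (Fintype.card F ^ 4 - 1)) := by
    have h3 := Subgroup.card_eq_card_quotient_mul_card_subgroup (Subgroup.center (symplecticGroup (Fin 2) F))
    rw [hZ, mul_one, Cfsg.Agent.S0245.result (F := F) rfl 2] at h3
    rw [← h3]
    simp [Finset.prod_range_succ]
  have h4 : Fintype.card F ^ 4 - 1 = (Fintype.card F ^ 2 + 1) * (Fintype.card F ^ 2 - 1) := by
    have := Nat.sq_sub_sq (Fintype.card F ^ 2) 1
    rw [one_pow, ← pow_mul] at this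
    exact this
  by_cases hd : p ∣ Fintype.card F ^ 2 - 1
  · -- `p ∣ q² - 1`
    obtain ⟨B, hdet, hBp, hB1, h0, h1⟩ := exists_B (F := F) h2 h5 hd
    have hdet2 : (B * B).det = 1 := by rw [det_mul, hdet, one_mul]
    let y : symplecticGroup (Fin 2) F := ⟨E B (B * B), E_mem hdet hdet2⟩
    have hyp : y ^ p = 1 := by
      apply Subtype.ext
      change (E B (B * B)) ^ p = 1
      rw [E_pow, hBp, ← sq, ← pow_mul, mul_comm 2 p, pow_mul, hBp, one_pow, E_one]
    have hy1 : y ≠ 1 := by
      intro h3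
      have h3' : E B (B * B) = 1 := congrArg Subtype.val h3
      exact hB1 (E_one_iff h3').1
    have hy : orderOf y = p := orderOf_eq_prime hyp hy1
    have hyS : orderOf (QuotientGroup.mk y : PSp 2 F) = p := by
      apply orderOf_eq_prime
      · rw [← QuotientGroup.mk_pow, hyp]
        rfl
      · intro h3
        exact hy1 (hinj y 1 h3)
    obtain ⟨-, -, -, x, t, hx, ht, hxt⟩ := H377.psp_adj_two_of_dvd (F := F) (m := 2) (i := 1) le_rfl (by norm_num)
      hp (by omega) (by rw [hnat, mul_one]; exact hd)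
    obtain ⟨φ, hφ⟩ := h.one x (QuotientGroup.mk y) hx hyS
    obtain ⟨s, hs⟩ := QuotientGroup.mk_surjective (φ t)
    have ht2 : orderOf (φ t) = 2 := (orderOf_injective φ.toMonoidHom φ.injective t).trans ht
    have hs2 : s * s = 1 := by
      apply hinj
      have h3 : φ t ^ 2 = 1 := by
        have := pow_orderOf_eq_one (φ t)
        rwa [ht2] at this
      rw [QuotientGroup.mk_mul, hs, ← sq, h3]
      rfl
    have hsy : y * s = s * y := by
      apply hinj
      rw [QuotientGroup.mk_mul, QuotientGroup.mk_mul, hs, ← hφ, ← map_mul, ← map_mul, hxt.eq]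
    have h3 := cent_one (F := F) h2 hdet h0 h1 (t := (s : Matrix (Fin 2 ⊕ Fin 2) (Fin 2 ⊕ Fin 2) F))
      (congrArg Subtype.val hsy) (congrArg Subtype.val hs2)
    have h6 : s = 1 := Subtype.ext h3
    rw [← hs, h6] at ht2
    change orderOf (1 : PSp 2 F) = 2 at ht2
    rw [orderOf_one] at ht2
    omega
  · -- `p ∣ q² + 1`
    have h3 := h.dvd
    rw [hcard] at h3
    have c1 : Nat.Coprime (p ^ n) (Fintype.card F ^ 4) :=
      Nat.Coprime.pow_left _ (Nat.Coprime.pow_right _ ((Nat.Prime.coprime_iff_not_dvd hp).2 hpF))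
    have c2 : Nat.Coprime (p ^ n) (Fintype.card F ^ 2 - 1) :=
      Nat.Coprime.pow_left _ ((Nat.Prime.coprime_iff_not_dvd hp).2 hd)
    have h6 := c2.dvd_of_dvd_mul_left (c1.dvd_of_dvd_mul_left h3)
    rw [h4] at h6
    have h7 := c2.dvd_of_dvd_mul_right h6
    have hodd : Odd (p ^ n) := (hp.odd_of_ne_two (by omega)).pow
    obtain ⟨g, hg⟩ := H377.exists_psp_tor_minus (F := F) (m := 2) (by norm_num) (N := p ^ n)
      (Nat.pow_pos hp.pos) (Or.inl ⟨hodd, by rw [hnat]; exact h7⟩)
    have h8 := h.orderOf_le hg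
    have := h.two
    omega

end Cfsg.Agent.H267.One
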