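import Cfsg.Agent.H319.One.Line
import Cfsg.Agent.H198.SympGamma
import Cfsg.Agent.H634.ElBase
import Cfsg.Agent.H267.One.Four

/-!
# S4880, row `PSp` in cross characteristic (helper267)

* `fx_conjHom` : semisimilitudes preserve `fx`;
* `hinv_psp` : if `φ (π x) = π y`, `x`, `y` of order `p`, then `fx x = fx y`;
* `row_psp`.
-/

set_option autoImplicit false

namespace Cfsg.Agent.H267.One

open Cfsg Matrix Cfsg.Agent.H319.One Cfsg.Agent.ClassicalGeometry.SympAutSemi

variable {F : Type*} [Field F] {m : ℕ}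

theorem fx_conjHom (g : semiSim m F) (x : symplecticGroup (Fin m) F) :
    fx ((conjHom m F g x : symplecticGroup (Fin m) F) : Matrix (Fin m ⊕ Fin m) (Fin m ⊕ Fin m) F) =
      fx (x : Matrix (Fin m ⊕ Fin m) (Fin m ⊕ Fin m) F) := by
  obtain ⟨A, σ, -, hA, -⟩ := Cfsg.Agent.H198.SympGamma.exists_pair_Psi g
  obtain ⟨x', hx'⟩ : ∃ x', conjHom m F g x = x' := ⟨_, rfl⟩
  rw [hx']
  have h1 : (x' : Matrix (Fin m ⊕ Fin m) (Fin m ⊕ Fin m) F) * (A : Matrix (Fin m ⊕ Fin m) (Fin m ⊕ Fin m) F) =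
      (A : Matrix (Fin m ⊕ Fin m) (Fin m ⊕ Fin m) F) *
        (x : Matrix (Fin m ⊕ Fin m) (Fin m ⊕ Fin m) F).map σ := by
    apply Matrix.mulVec_injective
    funext w
    obtain ⟨v, rfl⟩ : ∃ v : Fin m ⊕ Fin m → F, (fun i => σ (v i)) = w :=
      ⟨fun i => σ.symm (w i), by funext i; simp⟩
    rw [← Matrix.mulVec_mulVec, ← Matrix.mulVec_mulVec, ← hA]
    have h2 : rho m F x' (g.1 v) = g.1 (rho m F x v) := by
      rw [← hx', rho_conjHom, Equiv.Perm.mul_apply, Equiv.Perm.mul_apply, perm_inv_apply_self]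
    rw [rho_apply, rho_apply] at h2
    rw [h2, hA]
    congr 1
    exact (Cfsg.Agent.H198.SemiMat.map_mulVec σ _ v).symm
  have h2 : (x' : Matrix (Fin m ⊕ Fin m) (Fin m ⊕ Fin m) F) =
      (A : Matrix (Fin m ⊕ Fin m) (Fin m ⊕ Fin m) F) * (x : Matrix (Fin m ⊕ Fin m) (Fin m ⊕ Fin m) F).map σ *
        ((A⁻¹ : GL (Fin m ⊕ Fin m) F) : Matrix (Fin m ⊕ Fin m) (Fin m ⊕ Fin m) F) := by
    rw [← h1, mul_assoc, Units.mul_inv, mul_one]
  rw [h2, fx_conj]
  exact fx_map (σ : F →+* F) _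

variable [Fintype F]

/-- the projection -/
abbrev pr (m : ℕ) (F : Type*) [Field F] : symplecticGroup (Fin m) F →* PSp m F :=
  QuotientGroup.mk' (Subgroup.center (symplecticGroup (Fin m) F))

theorem sq_of_center (hm : 1 ≤ m) {z : symplecticGroup (Fin m) F}
    (hz : z ∈ Subgroup.center (symplecticGroup (Fin m) F)) : z ^ 2 = 1 := by
  have h1 : (⟨z, hz⟩ : Subgroup.center (symplecticGroup (Fin m) F)) ^ Nat.card (Subgroup.center
      (symplecticGroup (Fin m) F)) = 1 := pow_card_eq_one'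
  rw [Cfsg.Agent.S0246.result (F := F) rfl m hm] at h1
  obtain ⟨k, hk⟩ := Nat.gcd_dvd_left 2 (Fintype.card F - 1)
  have h2 : z ^ Nat.gcd 2 (Fintype.card F - 1) = 1 := congrArg Subtype.val h1
  rw [hk, pow_mul, h2, one_pow]

theorem hinv_psp (hm : 2 ≤ m) (h2 : 3 ≤ m ∨ (2 : F) ≠ 0) {p : ℕ} (hp : p.Prime) (hp2 : p ≠ 2)
    (φ : MulAut (PSp m F)) (x y : symplecticGroup (Fin m) F) (hx : orderOf x = p) (hy : orderOf y = p)
    (h : φ (pr m F x) = pr m F y) :
    fx (x : Matrix (Fin m ⊕ Fin m) (Fin m ⊕ Fin m) F) = fx (y : Matrix (Fin m ⊕ Fin m) (Fin m ⊕ Fin m) F) := by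
  obtain ⟨g, hg⟩ := ClassicalGeometry.SympAutExists.exists_semi hm φ
    (ClassicalGeometry.SympAutOddA.recog hm h2 φ)
  rw [← fx_conjHom g x]
  obtain ⟨x', hx'⟩ : ∃ x', conjHom m F g x = x' := ⟨_, rfl⟩
  have hxp : orderOf x' = p := by
    rw [← hx', ← hx]
    exact orderOf_injective (conjHom m F g).toMonoidHom (conjHom m F g).injective x
  rw [hx']
  congr 2
  have h3 : pr m F x' = pr m F y := by
    rw [← h, ← hg, ← hx']
    rfl
  have h4 : x'⁻¹ * y ∈ Subgroup.center (symplecticGroup (Fin m) F) := QuotientGroup.eq.1 h3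
  have h5 := sq_of_center (by omega) h4
  obtain ⟨z, hz⟩ : ∃ z, x'⁻¹ * y = z := ⟨_, rfl⟩
  rw [hz] at h4 h5
  have hyz : y = x' * z := by rw [← hz, mul_inv_cancel_left]
  have hcz : Commute x' z := (Subgroup.mem_center_iff.1 h4 x')
  have h6 : z ^ p = 1 := by
    have h7 := pow_orderOf_eq_one y
    rw [hy, hyz, hcz.mul_pow, ← hxp, pow_orderOf_eq_one, one_mul, hxp] at h7
    exact h7
  have h7 : orderOf z ∣ 1 := by
    rw [← (Nat.coprime_primes Nat.prime_two hp).2 hp2.symm]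
    exact Nat.dvd_gcd (orderOf_dvd_of_pow_eq_one h5) (orderOf_dvd_of_pow_eq_one h6)
  rw [Nat.dvd_one, orderOf_eq_one_iff] at h7
  rw [hyz, h7, mul_one]

/-- numbers -/
theorem two_le_geom {p : ℕ} (hp : 5 ≤ p) (k : ℕ) : 2 * (k + 2 + 1) ≤ ∑ i ∈ Finset.range (k + 2), p ^ i := by
  induction k with
  | zero =>
    rw [Finset.sum_range_succ, Finset.sum_range_one]
    simp
    omega
  | succ k ih =>
    rw [Finset.sum_range_succ]
    have h1 : 2 ≤ p ^ (k + 2) := by
      calc 2 ≤ p := by omega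
        _ = p ^ 1 := (pow_one p).symm
        _ ≤ p ^ (k + 2) := Nat.pow_le_pow_right (by omega) (by omega)
    omega

/-- **row `PSp`** -/
theorem row_psp {p n : ℕ} [Fact p.Prime] (hm : 2 ≤ m) (hpF : ¬ p ∣ Fintype.card F) (h : Hyp p n (PSp m F)) : False := by
  classical
  have hp : p.Prime := Fact.out
  have h5 := h.five
  by_cases h2 : 3 ≤ m ∨ (2 : F) ≠ 0
  · have hq1 : 1 < Fintype.card F := Fintype.one_lt_card
    have : Finite (symplecticGroup (Fin m) F) :=
      Finite.of_injective (fun A => (A : Matrix (Fin m ⊕ Fin m) (Fin m ⊕ Fin m) F)) Subtype.val_injective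
    let ρ : symplecticGroup (Fin m) F →* GL (Fin m ⊕ Fin m) F :=
      MonoidHom.toHomUnits (symplecticGroup (Fin m) F).subtype
    have hρv : ∀ x, ((ρ x : GL (Fin m ⊕ Fin m) F) : Matrix (Fin m ⊕ Fin m) (Fin m ⊕ Fin m) F) = x := fun x => rfl
    have hρ : Function.Injective ρ := fun x y hxy => Subtype.ext (by rw [← hρv, ← hρv, hxy])
    have hZ : Nat.card (pr m F).ker = Nat.gcd 2 (Fintype.card F - 1) := by
      rw [QuotientGroup.ker_mk', Cfsg.Agent.S0246.result (F := F) rfl m (by omega)]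
    have hc : ¬ p ∣ Nat.gcd 2 (Fintype.card F - 1) := by
      intro h3
      have := Nat.le_of_dvd (by norm_num) (h3.trans (Nat.gcd_dvd_left _ _))
      omega
    refine classical_false h ρ hρ (pr m F) (QuotientGroup.mk'_surjective _) (by rw [hZ]; exact hc) hpF
      (fun φ x y hx hy hxy => ?_) ?_
    · rw [hρv, hρv]
      exact hinv_psp hm h2 hp (by omega) φ x y hx hy hxy
    · -- the size
      obtain ⟨q, hq⟩ : ∃ q, Fintype.card F = q := ⟨_, rfl⟩
      rw [hq] at hq1 hc hpF ⊢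
      have hq0 : (q : ZMod p) ≠ 0 := fun h3 => hpF ((ZMod.natCast_eq_zero_iff q p).1 h3)
      have hd0 : 0 < orderOf (q : ZMod p) := by
        rw [orderOf_pos_iff, isOfFinOrder_iff_pow_eq_one]
        exact ⟨p - 1, by omega, ZMod.pow_card_sub_one_eq_one hq0⟩
      have he0 : 0 < orderOf ((q : ZMod p) ^ 2) := by
        rw [orderOf_pos_iff, isOfFinOrder_iff_pow_eq_one]
        exact ⟨p - 1, by omega, ZMod.pow_card_sub_one_eq_one (pow_ne_zero 2 hq0)⟩
      have hed : orderOf ((q : ZMod p) ^ 2) ≤ orderOf (q : ZMod p) := by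
        apply orderOf_le_of_pow_eq_one hd0
        rw [← pow_mul, mul_comm, pow_mul, pow_orderOf_eq_one, one_pow]
      obtain ⟨e, he⟩ : ∃ e, orderOf ((q : ZMod p) ^ 2) = e := ⟨_, rfl⟩
      obtain ⟨d, hd⟩ : ∃ d, orderOf (q : ZMod p) = d := ⟨_, rfl⟩
      have he1 : ((q : ZMod p) ^ 2) ^ e = 1 := by rw [← he, pow_orderOf_eq_one]
      rw [he] at he0 hed
      rw [hd] at hd0 hed ⊢
      have h1 : p ^ (m / e) ∣ ∏ i ∈ Finset.range m, (q ^ (2 * (i + 1)) - 1) := by
        refine H634.Num.pow_dvd_prod (d := e) (fun j => q ^ (2 * j) - 1) (fun k _ => ?_) m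
        apply H634.El.dvd_sub_one_of_pow hq1.le
        rw [← mul_assoc, mul_comm 2 e, mul_assoc, mul_comm, mul_assoc, pow_mul, mul_comm k e, pow_mul, he1, one_pow]
      have h3 : p ^ (m / e) ∣ Nat.gcd 2 (q - 1) * Nat.card (PSp m F) := by
        have h4 : Nat.card (symplecticGroup (Fin m) F) = Nat.gcd 2 (q - 1) * Nat.card (PSp m F) := by
          rw [Subgroup.card_eq_card_quotient_mul_card_subgroup (Subgroup.center (symplecticGroup (Fin m) F)),
            Cfsg.Agent.S0246.result hq m (by omega), mul_comm]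
        rw [← h4, Cfsg.Agent.S0245.result hq m]
        exact h1.mul_left _
      have h4 : p ^ (m / e) ∣ Nat.card (PSp m F) :=
        (Nat.Coprime.pow_left _ ((Nat.Prime.coprime_iff_not_dvd hp).2 hc)).dvd_of_dvd_mul_left h3
      have h6 := h.le_of_dvd h4
      have h7 : m < (n + 1) * e := (Nat.div_lt_iff_lt_mul he0).1 (by omega)
      have h8 : (n + 1) * e ≤ (n + 1) * d := Nat.mul_le_mul_left _ hed
      have hn := h.two
      obtain ⟨k, rfl⟩ : ∃ k, n = k + 2 := ⟨n - 2, by omega⟩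
      have h9 := two_le_geom h5 k
      rw [Fintype.card_sum, Fintype.card_fin]
      calc m + m < 2 * ((k + 2 + 1) * d) := by omega
        _ = d * (2 * (k + 2 + 1)) := by ring
        _ ≤ d * ∑ i ∈ Finset.range (k + 2), p ^ i := Nat.mul_le_mul_left _ h9
  · push Not at h2
    obtain rfl : m = 2 := by omega
    exact four_false h2.2 hpF h

end Cfsg.Agent.H267.One
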